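import Mathlib
import Groth.Agent.HorrocksLib.Idem
import Groth.Agent.HorrocksLib.Local
import Groth.Agent.HorrocksLib.Patching

/-!
# Cancellation of Laurent series for finite projective modules
-/

set_option autoImplicit false

open Matrix Polynomial
open scoped TensorProduct

universe u

namespace Groth.Agent.LaurentCancelLib

open Groth.Agent.HorrocksLib

variable {R : Type u} [CommRing R] {m k : Type} [Fintype m] [Fintype k] [DecidableEq m] [DecidableEq k]

theorem cancel_pow {p q : Type} {D D' : Matrix p q R[X]} (N : ℕ)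
    (h : (X : R[X]) ^ N • D = (X : R[X]) ^ N • D') : D = D' := by
  ext1 i j
  exact (Polynomial.monic_X_pow N).isRegular.left (congrFun (congrFun h i) j)

theorem map_smulR {A B : Type*} [CommRing A] [CommRing B] (φ : A →+* B) {p q : Type} (r : A) (M : Matrix p q A) :
    (r • M).map φ = φ r • M.map φ := by
  ext i j; simp

theorem exists_factor {p q : Type} (D : Matrix p q R[X]) (M : ℕ)
    (h : D.map (fun x => Ideal.Quotient.mk (Ideal.span {(PowerSeries.X : PowerSeries R) ^ M})
      (x : PowerSeries R)) = 0) :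
    ∃ P : Matrix p q R[X], D = (X : R[X]) ^ M • P := by
  have hd : ∀ i j, (X : R[X]) ^ M ∣ D i j := fun i j => by
    have h' := Ideal.Quotient.eq_zero_iff_mem.1 (congrFun (congrFun h i) j)
    rw [Ideal.mem_span_singleton, PowerSeries.X_pow_dvd_iff] at h'
    rw [Polynomial.X_pow_dvd_iff]
    intro d hd
    have := h' d hd
    rwa [Polynomial.coeff_coe] at this
  choose P hP using hd
  exact ⟨Matrix.of P, by ext1 i j; exact hP i j⟩

theorem eqv_of_eqv_laurent {e : Matrix m m R} {f : Matrix k k R} (he : e * e = e) (hf : f * f = f)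
    (h : Eqv (e.map (algebraMap R (LaurentSeries R))) (f.map (algebraMap R (LaurentSeries R)))) :
    Eqv e f := by
  set ι : PowerSeries R →+* LaurentSeries R := algebraMap (PowerSeries R) (LaurentSeries R) with hι
  have hιinj : Function.Injective ι := HahnSeries.ofPowerSeries_injective
  have hc : algebraMap R (LaurentSeries R) = ι.comp (PowerSeries.C) := by
    ext r
    rw [RingHom.comp_apply, hι, LaurentSeries.coe_algebraMap, HahnSeries.algebraMap_apply',
      PowerSeries.algebraMap_eq]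
  rw [hc, RingHom.coe_comp, ← Matrix.map_map, ← Matrix.map_map] at h
  set eS := e.map (PowerSeries.C (R := R)) with heS
  set fS := f.map (PowerSeries.C (R := R)) with hfS
  have heS2 : eS * eS = eS := idem_map _ he
  have hfS2 : fS * fS = fS := idem_map _ hf
  obtain ⟨u, v, h1, h2, h3, h4, h5, h6⟩ := h.normal (idem_map ι heS2) (idem_map ι hfS2)
  obtain ⟨⟨_, a₁, rfl⟩, U, hU⟩ := exists_num (R := PowerSeries R) (Submonoid.powers (PowerSeries.X : PowerSeries R)) u
  obtain ⟨⟨_, a₂, rfl⟩, V, hV⟩ := exists_num (R := PowerSeries R) (Submonoid.powers (PowerSeries.X : PowerSeries R)) v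
  set a := a₁ + a₂ with ha
  -- uniformised numerators
  obtain ⟨U', hU'⟩ : ∃ U', U'.map ι = ι (PowerSeries.X ^ a) • u := ⟨PowerSeries.X ^ a₂ • U, by
    rw [map_smulR ι, hU, ← IsScalarTower.algebraMap_smul (LaurentSeries R) _ u, smul_smul,
      ← map_mul, ← pow_add, add_comm]⟩
  obtain ⟨V', hV'⟩ : ∃ V', V'.map ι = ι (PowerSeries.X ^ a) • v := ⟨PowerSeries.X ^ a₁ • V, by
    rw [map_smulR ι, hV, ← IsScalarTower.algebraMap_smul (LaurentSeries R) _ v, smul_smul,
      ← map_mul, ← pow_add]⟩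
  clear hU hV U V
  have hmi : ∀ {p q : Type} (A B : Matrix p q (PowerSeries R)), A.map ι = B.map ι → A = B :=
    fun A B hAB => Matrix.map_injective hιinj hAB
  have hUV : U' * V' = (PowerSeries.X : PowerSeries R) ^ (2 * a) • eS := by
    apply hmi
    rw [Matrix.map_mul, hU', hV', Matrix.smul_mul, Matrix.mul_smul, h1, smul_smul, ← map_mul, ← pow_add, ← two_mul,
      map_smulR ι]
  have hVU : V' * U' = (PowerSeries.X : PowerSeries R) ^ (2 * a) • fS := by
    apply hmi
    rw [Matrix.map_mul, hU', hV', Matrix.smul_mul, Matrix.mul_smul, h2, smul_smul, ← map_mul, ← pow_add, ← two_mul,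
      map_smulR ι]
  have hU1 : eS * U' = U' := hmi _ _ (by rw [Matrix.map_mul, hU', Matrix.mul_smul, h3])
  have hU2 : U' * fS = U' := hmi _ _ (by rw [Matrix.map_mul, hU', Matrix.smul_mul, h4])
  have hV1 : fS * V' = V' := hmi _ _ (by rw [Matrix.map_mul, hV', Matrix.mul_smul, h5])
  have hV2 : V' * eS = V' := hmi _ _ (by rw [Matrix.map_mul, hV', Matrix.smul_mul, h6])
  -- truncation
  set N := 2 * a + 1 with hN
  set M := N + 2 * a with hM
  set ec := e.map (C : R →+* R[X]) with hec
  set fc := f.map (C : R →+* R[X]) with hfc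
  have hec2 : ec * ec = ec := idem_map _ he
  have hfc2 : fc * fc = fc := idem_map _ hf
  let ψ : PowerSeries R →+* PowerSeries R ⧸ Ideal.span {(PowerSeries.X : PowerSeries R) ^ M} := Ideal.Quotient.mk _
  let θ : R[X] →+* PowerSeries R ⧸ Ideal.span {(PowerSeries.X : PowerSeries R) ^ M} :=
    ψ.comp Polynomial.coeToPowerSeries.ringHom
  have hθC : ∀ {p q : Type} (A : Matrix p q R), (A.map (C : R →+* R[X])).map θ = (A.map (PowerSeries.C (R := R))).map ψ := by
    intro p q A; ext i j; simp [θ]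
  have htr : ∀ {p q : Type} (A : Matrix p q (PowerSeries R)), (A.map (PowerSeries.trunc M)).map θ = A.map ψ := by
    intro p q A; ext i j
    simp only [Matrix.map_apply, θ, ψ, RingHom.comp_apply, Polynomial.coeToPowerSeries.ringHom_apply]
    rw [Ideal.Quotient.eq, Ideal.mem_span_singleton, PowerSeries.X_pow_dvd_iff]
    intro d hd
    rw [map_sub, Polynomial.coeff_coe, PowerSeries.coeff_trunc, if_pos hd, sub_self]
  set U0 := ec * U'.map (PowerSeries.trunc M) * fc with hU0
  set V0 := fc * V'.map (PowerSeries.trunc M) * ec with hV0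
  have hU0θ : U0.map θ = U'.map ψ := by
    rw [hU0, Matrix.map_mul, Matrix.map_mul, hec, hfc, hθC, hθC, htr, ← Matrix.map_mul, ← Matrix.map_mul,
      ← heS, ← hfS, hU1, hU2]
  have hV0θ : V0.map θ = V'.map ψ := by
    rw [hV0, Matrix.map_mul, Matrix.map_mul, hec, hfc, hθC, hθC, htr, ← Matrix.map_mul, ← Matrix.map_mul,
      ← heS, ← hfS, hV1, hV2]
  have heU : ec * U0 = U0 := by rw [hU0, ← Matrix.mul_assoc, ← Matrix.mul_assoc, hec2]
  have hUf : U0 * fc = U0 := by rw [hU0, Matrix.mul_assoc, hfc2]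
  have hVe : V0 * ec = V0 := by rw [hV0, Matrix.mul_assoc, hec2]
  have hfV : fc * V0 = V0 := by rw [hV0, ← Matrix.mul_assoc, ← Matrix.mul_assoc, hfc2]
  obtain ⟨P, hP⟩ : ∃ P, U0 * V0 - (X : R[X]) ^ (2 * a) • ec = (X : R[X]) ^ M • P := exists_factor _ M (by
    change (U0 * V0 - (X : R[X]) ^ (2 * a) • ec).map θ = 0
    rw [Matrix.map_sub θ (map_sub θ), Matrix.map_mul, hU0θ, hV0θ, ← Matrix.map_mul, hUV, sub_eq_zero,
      map_smulR ψ, map_smulR θ, hec, hθC]
    simp [θ, heS])
  obtain ⟨Q, hQ⟩ : ∃ Q, V0 * U0 - (X : R[X]) ^ (2 * a) • fc = (X : R[X]) ^ M • Q := exists_factor _ M (by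
    change (V0 * U0 - (X : R[X]) ^ (2 * a) • fc).map θ = 0
    rw [Matrix.map_sub θ (map_sub θ), Matrix.map_mul, hU0θ, hV0θ, ← Matrix.map_mul, hVU, sub_eq_zero,
      map_smulR ψ, map_smulR θ, hfc, hθC]
    simp [θ, hfS])
  have heP : ec * P = P := cancel_pow M (by
    rw [← Matrix.mul_smul, ← hP, Matrix.mul_sub, ← Matrix.mul_assoc, heU, Matrix.mul_smul, hec2])
  -- the lattice
  let π : Matrix m (k ⊕ m) R[X] := fromCols U0 ((X : R[X]) ^ N • ec)
  let S : Matrix (k ⊕ m) m R[X] := fromRows V0 (-((X : R[X]) ^ (2 * a) • P))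
  let E : Matrix (k ⊕ m) (k ⊕ m) R[X] :=
    fromBlocks (fc + (X : R[X]) ^ N • Q) ((X : R[X]) • V0) (-(P * U0)) (-((X : R[X]) ^ N • (P * ec)))
  have hπS : π * S = (X : R[X]) ^ (2 * a) • ec := by
    rw [fromCols_mul_fromRows, Matrix.mul_neg, Matrix.smul_mul, Matrix.mul_smul, heP, smul_smul, ← pow_add, ← hM,
      ← sub_eq_add_neg, ← hP, sub_sub_cancel]
  have hSπ : S * π = (X : R[X]) ^ (2 * a) • E := by
    rw [fromRows_mul_fromCols, fromBlocks_smul, Matrix.mul_smul, hVe, sub_eq_iff_eq_add.1 hQ]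
    congr 1
    · rw [hM, smul_add, smul_smul, ← pow_add, add_comm (2 * a) N, add_comm]
    · rw [smul_smul, ← pow_succ]
    · rw [Matrix.neg_mul, Matrix.smul_mul, smul_neg]
    · rw [Matrix.neg_mul, Matrix.smul_mul, Matrix.mul_smul, smul_neg]
  have heπ : ec * π = π := by
    rw [mul_fromCols, heU, Matrix.mul_smul, hec2]
  have hE : E * E = E := cancel_pow (2 * a + 2 * a) (by
    calc (X : R[X]) ^ (2 * a + 2 * a) • (E * E)
        = ((X : R[X]) ^ (2 * a) • E) * ((X : R[X]) ^ (2 * a) • E) := by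
          rw [Matrix.smul_mul, Matrix.mul_smul, smul_smul, ← pow_add]
      _ = S * ((π * S) * π) := by rw [← hSπ, Matrix.mul_assoc, ← Matrix.mul_assoc π]
      _ = (X : R[X]) ^ (2 * a) • (S * π) := by rw [hπS, Matrix.smul_mul, heπ, Matrix.mul_smul]
      _ = _ := by rw [hSπ, smul_smul, ← pow_add])
  -- extended from the base
  have hext : Eqv E ((E.map (evalRingHom (0 : R))).map C) := by
    refine eqv_eval_zero E hE fun p hp => ?_
    obtain ⟨r, hr⟩ := exists_eqv_one_of_isLocalRing (idem_map (algebraMap R (Localization.AtPrime p)) he)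
    obtain ⟨A, B, hA, hB⟩ := hr
    set φ := mapRingHom (algebraMap R (Localization.AtPrime p)) with hφ
    have hecφ : ec.map φ = A.map C * B.map C := by
      rw [← Matrix.map_mul, hA]; ext i j; simp [hec, hφ]
    have hBA : B.map (C : Localization.AtPrime p →+* _) * A.map C = 1 := by
      rw [← Matrix.map_mul, hB, Matrix.map_one _ (map_zero _) (map_one _)]
    refine ⟨r, horrocks (idem_map φ hE) (monic_X_pow (2 * a)) (S.map φ * A.map C) (B.map C * π.map φ) ?_ ?_⟩
    · rw [Matrix.mul_assoc, ← Matrix.mul_assoc (A.map C), ← hecφ, ← Matrix.map_mul, heπ, ← Matrix.map_mul, hSπ,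
        map_smulR φ, map_pow, hφ, coe_mapRingHom, map_X]
    · rw [Matrix.mul_assoc, ← Matrix.mul_assoc (π.map φ), ← Matrix.map_mul, hπS, map_smulR φ,
        hecφ, map_pow, hφ, coe_mapRingHom, map_X, Matrix.smul_mul, Matrix.mul_smul, Matrix.mul_assoc, hBA,
        Matrix.mul_one, hBA]
  set E1 := E.map (evalRingHom (1 : R)) with hE1
  set E0 := E.map (evalRingHom (0 : R)) with hE0
  have hE10 : Eqv E1 E0 := by
    have := hext.map (evalRingHom (1 : R))
    rwa [Matrix.map_map (f := C), show ((evalRingHom (1 : R)) ∘ (C : R →+* R[X])) = id from funext fun x => by simp,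
      Matrix.map_id] at this
  have hev : ∀ (c : R) {p q : Type} (A : Matrix p q R), (A.map (C : R →+* R[X])).map (evalRingHom c) = A := by
    intro c p q A; ext i j; simp
  have he1 : Eqv e E1 := by
    refine ⟨π.map (evalRingHom (1 : R)), S.map (evalRingHom (1 : R)), ?_, ?_⟩
    · rw [← Matrix.map_mul, hπS, map_smulR (evalRingHom (1:R)), hec, hev]; simp
    · rw [← Matrix.map_mul, hSπ, map_smulR (evalRingHom (1:R)), hE1]; simp
  have hE0f : Eqv E0 f := by
    set W := (P.map (evalRingHom (0 : R))) * (U0.map (evalRingHom (0 : R))) with hW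
    have hE0' : E0 = fromBlocks f 0 (-W) 0 := by
      rw [hE0, fromBlocks_map, hW, ← Matrix.map_mul, Matrix.map_add _ (map_add _), hfc, hev]
      have hX : ∀ {p q : Type} (n : ℕ) (A : Matrix p q R[X]), ((X : R[X]) ^ (n + 1) • A).map (evalRingHom (0 : R)) = 0 := by
        intro p q n A; ext i j; simp
      have hX1 : ((X : R[X]) • V0).map (evalRingHom (0 : R)) = 0 := by ext i j; simp
      have hn : (-((X : R[X]) ^ N • (P * ec))).map (evalRingHom (0 : R)) = 0 := by ext i j; simp [hN]
      rw [hN] at hn ⊢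
      rw [hX, hX1, hn, add_zero]
      congr 1
      ext i j; simp
    have hWf : W * f = W := by
      rw [hW, Matrix.mul_assoc, ← hev 0 f, ← hfc, ← Matrix.map_mul, hUf]
    refine ⟨fromRows f (-W), fromCols f 0, ?_, ?_⟩
    · rw [hE0', fromRows_mul_fromCols, hf, Matrix.neg_mul, hWf, Matrix.mul_zero, Matrix.mul_zero]
    · rw [fromCols_mul_fromRows, hf, Matrix.zero_mul, add_zero]
  exact (he1.trans he (idem_map _ hE) hE10).trans he hf hE0f

theorem nonempty_linearEquiv {L : Type u} [CommRing L] [Algebra R L] (eL : L ≃ₐ[R] LaurentSeries R)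
    {M N : Type u} [AddCommGroup M] [Module R M] [Module.Finite R M] [Module.Projective R M]
    [AddCommGroup N] [Module R N] [Module.Finite R N] [Module.Projective R N]
    (φ : L ⊗[R] M ≃ₗ[L] L ⊗[R] N) : Nonempty (M ≃ₗ[R] N) := by
  obtain ⟨n, e, ⟨P⟩⟩ := exists_pres (R := R) (M := M)
  obtain ⟨n', f, ⟨P'⟩⟩ := exists_pres (R := R) (M := N)
  refine P.nonempty_equiv P' (eqv_of_eqv_laurent P.idem P'.idem ?_)
  have h := Eqv.map eL.toAlgHom.toRingHom ((P.baseChange L).eqv (P'.baseChange L) φ)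
  have hc : eL.toAlgHom.toRingHom.comp (algebraMap R L) = algebraMap R (LaurentSeries R) := RingHom.ext eL.commutes
  rwa [Matrix.map_map, Matrix.map_map, ← RingHom.coe_comp, hc] at h

end Groth.Agent.LaurentCancelLib
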